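import Groth.Agent.L06.QuillenTriv.Push
import Groth.Agent.L09.QuillenGlue
import Groth.Agent.L09.TorsorSch
import Mathlib.CategoryTheory.Monoidal.Cartesian.Over
import Mathlib.AlgebraicGeometry.Morphisms.FinitePresentation

/-!
# Gluing a trivial torsor and a torsor along a section on the overlap
-/

universe u

open CategoryTheory CategoryTheory.Limits MonoidalCategory CartesianMonoidalCategory MonObj
  AlgebraicGeometry

noncomputable section

namespace Groth.L06.QuillenTriv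

open Groth.L09.TorsorPts

set_option backward.isDefEq.respectTransparency false
set_option backward.isDefEq.respectTransparency.types false
set_option linter.style.haveILetI false

variable {S : Scheme.{u}}

/-- Squares in `Over S` from squares of schemes. -/
lemma isPullback_over {A B C D : Over S} {f : A ⟶ B} {g : A ⟶ C} {h : B ⟶ D} {i : C ⟶ D}
    (H : IsPullback f.left g.left h.left i.left) : IsPullback f g h i :=
  IsPullback.of_map_of_faithful (Over.forget S) H

lemma isPullback_left {A B C D : Over S} {f : A ⟶ B} {g : A ⟶ C} {h : B ⟶ D} {i : C ⟶ D}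
    (H : IsPullback f g h i) : IsPullback f.left g.left h.left i.left :=
  H.map (Over.forget S)

lemma mem_range_of_isPullback {A B C D : Scheme.{u}} {f : A ⟶ B} {g : A ⟶ C} {h : B ⟶ D} {i : C ⟶ D}
    (H : IsPullback f g h i) {b : B} {c : C} (e : h b = i c) : b ∈ Set.range f := by
  obtain ⟨z, hz, -⟩ := Scheme.Pullback.exists_preimage_pullback (f := h) (g := i) b c e
  refine ⟨H.isoPullback.inv z, ?_⟩
  rw [← Scheme.Hom.comp_apply, H.isoPullback_inv_fst]
  exact hz

lemma mem_range_whiskerLeft (Q : Over S) {T M : Over S} (j : T ⟶ M) (x : ↥((Q ⊗ M).left))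
    (hx : (snd Q M).left x ∈ Set.range j.left) : x ∈ Set.range (Q ◁ j).left := by
  obtain ⟨t, ht⟩ := hx
  exact mem_range_of_isPullback (Groth.L25.Actions.isPullback_whiskerLeft_left Q j) ht.symm

variable {G B D₁ D₂ W₀ V₂ : Over S} [GrpObj G] {i₁ : D₁ ⟶ B} {i₂ : D₂ ⟶ B} {k₁ : W₀ ⟶ D₁} {k₂ : W₀ ⟶ D₂}
  (hk : IsPullback k₁ k₂ i₁ i₂) [IsOpenImmersion i₁.left] [IsOpenImmersion i₂.left]
  {a₂ : AlgGrp.Action G V₂} {π₂ : V₂ ⟶ D₂} (h₂ : RelPseudo a₂ π₂) (σ₀ : W₀ ⟶ V₂) (hσ₀ : σ₀ ≫ π₂ = k₂)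

include h₂ hσ₀ in
/-- A relative torsor with a section over `W₀` is trivial there. -/
lemma isPullback_j₂ : IsPullback (sm a₂ (fst G W₀) (snd G W₀ ≫ σ₀)) (snd G W₀) π₂ k₂ := by
  have w : sm a₂ (fst G W₀) (snd G W₀ ≫ σ₀) ≫ π₂ = snd G W₀ ≫ k₂ := by
    rw [h₂.sm_proj, Category.assoc, hσ₀]
  refine ⟨⟨w⟩, ⟨PullbackCone.IsLimit.mk w
    (fun s => lift (h₂.div s.fst (s.snd ≫ σ₀) (by rw [s.condition, Category.assoc, hσ₀])) s.snd) ?_ ?_ ?_⟩⟩
  · intro s
    rw [comp_sm, lift_fst, lift_snd_assoc, h₂.sm_div]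
  · intro s
    rw [lift_snd]
  · intro s m h1 h2
    refine CartesianMonoidalCategory.hom_ext _ _ ?_ ?_
    · rw [lift_fst]
      refine h₂.eq_div _ ?_
      rw [comp_sm, ← Category.assoc, h2] at h1
      exact h1
    · rw [lift_snd, h2]

/-- The data of a gluing. -/
structure Glued (a₂ : AlgGrp.Action G V₂) (π₂ : V₂ ⟶ D₂) (i₁ : D₁ ⟶ B) (i₂ : D₂ ⟶ B) where
  /-- the glued object -/
  Y : Over S
  /-- the action -/
  a : AlgGrp.Action G Y
  /-- the projection -/
  π : Y ⟶ B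
  rel : RelPseudo a π
  /-- the section over the first open -/
  s₁ : D₁ ⟶ Y
  s₁_π : s₁ ≫ π = i₁
  /-- the inclusion of the torsor -/
  ε : V₂ ⟶ Y
  ε_pb : IsPullback ε π₂ π i₂
  ε_sm : ∀ {Z : Over S} (g : Z ⟶ G) (x : Z ⟶ V₂), sm a₂ g x ≫ ε = sm a g (x ≫ ε)
  lfp : LocallyOfFinitePresentation G.hom → LocallyOfFinitePresentation D₁.hom →
    LocallyOfFinitePresentation V₂.hom → LocallyOfFinitePresentation Y.hom

include hk h₂ hσ₀ in
theorem exists_glued (hcov : ∀ b, b ∈ Set.range i₁.left ∨ b ∈ Set.range i₂.left) :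
    Nonempty (Glued a₂ π₂ i₁ i₂) := by
  haveI : IsOpenImmersion k₂.left :=
    MorphismProperty.of_isPullback (P := @IsOpenImmersion) (isPullback_left hk) inferInstance
  haveI : IsOpenImmersion k₁.left :=
    MorphismProperty.of_isPullback (P := @IsOpenImmersion) (isPullback_left hk).flip inferInstance
  let j₁ : G ⊗ W₀ ⟶ G ⊗ D₁ := G ◁ k₁
  let j₂ : G ⊗ W₀ ⟶ V₂ := sm a₂ (fst G W₀) (snd G W₀ ≫ σ₀)
  have hj₂ := isPullback_j₂ h₂ σ₀ hσ₀
  haveI : IsOpenImmersion j₁.left := Groth.L25.Actions.of_whiskerLeft @IsOpenImmersion G _ ‹_›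
  haveI : IsOpenImmersion j₂.left :=
    MorphismProperty.of_isPullback (P := @IsOpenImmersion) (isPullback_left hj₂).flip ‹_›
  let Y : Over S := Over.mk (pushout.desc (G ⊗ D₁).hom V₂.hom
    ((Over.w j₁).trans (Over.w j₂).symm))
  let inl : G ⊗ D₁ ⟶ Y := Over.homMk (pushout.inl j₁.left j₂.left) (pushout.inl_desc _ _ _)
  let inr : V₂ ⟶ Y := Over.homMk (pushout.inr j₁.left j₂.left) (pushout.inr_desc _ _ _)
  haveI : IsOpenImmersion inl.left := isOpenImmersion_inl _ _
  haveI : IsOpenImmersion inr.left := isOpenImmersion_inr _ _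
  haveI : Mono inl := (Over.forget S).mono_of_mono_map (inferInstanceAs (Mono inl.left))
  haveI : Mono inr := (Over.forget S).mono_of_mono_map (inferInstanceAs (Mono inr.left))
  have pbW : IsPullback j₁ j₂ inl inr := isPullback_over (isPullback j₁.left j₂.left)
  have hsurj : ∀ y, y ∈ Set.range inl.left ∨ y ∈ Set.range inr.left := jointly_surjective j₁.left j₂.left
  have hπw : j₁ ≫ snd G D₁ ≫ i₁ = j₂ ≫ π₂ ≫ i₂ := by
    rw [← Category.assoc j₂ π₂ i₂, show j₂ ≫ π₂ = snd G W₀ ≫ k₂ from hj₂.w, Category.assoc,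
      whiskerLeft_snd_assoc, hk.w]
  let π : Y ⟶ B := Over.homMk (pushout.desc (snd G D₁ ≫ i₁).left (π₂ ≫ i₂).left (by
      rw [← Over.comp_left, ← Over.comp_left, hπw])) (by
      show pushout.desc _ _ _ ≫ B.hom = pushout.desc _ _ _
      apply pushout.hom_ext
      · rw [pushout.inl_desc_assoc, pushout.inl_desc, Over.w]
      · rw [pushout.inr_desc_assoc, pushout.inr_desc, Over.w])
  have eπ₁ : inl ≫ π = snd G D₁ ≫ i₁ := by ext1; exact pushout.inl_desc _ _ _
  have eπ₂ : inr ≫ π = π₂ ≫ i₂ := by ext1; exact pushout.inr_desc _ _ _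
  have ap : ∀ {A A' : Over S} (f : A ⟶ A') {A'' : Over S} (f' : A' ⟶ A'') (x : A.left),
      (f ≫ f').left x = f'.left (f.left x) := fun {A A'} f {A''} f' x => rfl
  -- preimages of the two opens
  have pb1 : IsPullback inl (snd G D₁) π i₁ := by
    refine isPullback_over (IsOpenImmersion.isPullback (snd G D₁).left inl.left i₁.left π.left
      (congrArg Over.Hom.left eπ₁) ?_).flip
    refine TopologicalSpace.Opens.ext (Set.ext fun y => ⟨?_, ?_⟩)
    · rintro ⟨d, hd⟩
      rcases hsurj y with h | ⟨v, rfl⟩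
      · exact h
      · rw [← ap inr π, eπ₂, ap] at hd
        obtain ⟨w, hw⟩ := mem_range_of_isPullback (isPullback_left hk).flip hd.symm
        obtain ⟨z, hz⟩ := mem_range_of_isPullback (isPullback_left hj₂) hw.symm
        exact ⟨j₁.left z, by rw [← ap j₁ inl, pbW.w, ap, hz]⟩
    · rintro ⟨p, rfl⟩
      exact ⟨(snd G D₁).left p, by rw [← ap inl π, eπ₁, ap]⟩
  have pb2 : IsPullback inr π₂ π i₂ := by
    refine isPullback_over (IsOpenImmersion.isPullback π₂.left inr.left i₂.left π.left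
      (congrArg Over.Hom.left eπ₂) ?_).flip
    refine TopologicalSpace.Opens.ext (Set.ext fun y => ⟨?_, ?_⟩)
    · rintro ⟨d, hd⟩
      rcases hsurj y with ⟨p, rfl⟩ | h
      · rw [← ap inl π, eπ₁, ap] at hd
        obtain ⟨w, hw⟩ := mem_range_of_isPullback (isPullback_left hk) hd.symm
        obtain ⟨z, hz⟩ := mem_range_whiskerLeft G k₁ p ⟨w, hw⟩
        exact ⟨j₂.left z, by rw [← ap j₂ inr, ← pbW.w, ap, hz]⟩
      · exact h
    · rintro ⟨p, rfl⟩
      exact ⟨π₂.left p, by rw [← ap inr π, eπ₂, ap]⟩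
  -- extensionality on the two parts
  have ext2 : ∀ {Z M : Over S} (y : Z ⟶ Y) (e e' : Z ⟶ M),
      (∀ {T : Over S} (c : T ⟶ Z) (p : T ⟶ G ⊗ D₁), c ≫ y = p ≫ inl → c ≫ e = c ≫ e') →
      (∀ {T : Over S} (c : T ⟶ Z) (q : T ⟶ V₂), c ≫ y = q ≫ inr → c ≫ e = c ≫ e') → e = e' := by
    intro Z M y e e' h1 h2
    let c₁ := pullback.fst y.left inl.left
    let c₂ := pullback.fst y.left inr.left
    have hc : ∀ z, z ∈ Set.range c₁ ∨ z ∈ Set.range c₂ := fun z => by
      rcases hsurj (y.left z) with ⟨p, hp⟩ | ⟨q, hq⟩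
      · obtain ⟨w, hw, -⟩ := Scheme.Pullback.exists_preimage_pullback z p hp.symm
        exact Or.inl ⟨w, hw⟩
      · obtain ⟨w, hw, -⟩ := Scheme.Pullback.exists_preimage_pullback z q hq.symm
        exact Or.inr ⟨w, hw⟩
    obtain ⟨f, -, hu⟩ := Groth.L09.Quillen.glue_two c₁ c₂ hc (c₁ ≫ e.left) (c₂ ≫ e.left)
      (fun v w h => by rw [reassoc_of% h])
    ext1
    refine (hu e.left ⟨rfl, rfl⟩).trans (hu e'.left ⟨?_, ?_⟩).symm
    · let T : Over S := Over.mk (c₁ ≫ Z.hom)
      exact (congrArg Over.Hom.left (h1 (Over.homMk c₁ : T ⟶ Z)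
        (Over.homMk (pullback.snd y.left inl.left) (by
          show _ = c₁ ≫ Z.hom
          rw [← Over.w inl, ← Category.assoc, ← pullback.condition, Category.assoc, Over.w]) : T ⟶ G ⊗ D₁)
        (by ext1; exact pullback.condition))).symm
    · let T : Over S := Over.mk (c₂ ≫ Z.hom)
      exact (congrArg Over.Hom.left (h2 (Over.homMk c₂ : T ⟶ Z)
        (Over.homMk (pullback.snd y.left inr.left) (by
          show _ = c₂ ≫ Z.hom
          rw [← Over.w inr, ← Category.assoc, ← pullback.condition, Category.assoc, Over.w]) : T ⟶ V₂)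
        (by ext1; exact pullback.condition))).symm
  -- the action
  let m₁ : ∀ {T : Over S}, (T ⟶ G) → (T ⟶ G ⊗ D₁) → (T ⟶ G ⊗ D₁) :=
    fun g p => lift (g * (p ≫ fst _ _)) (p ≫ snd _ _)
  have m₁_comp : ∀ {T T' : Over S} (c : T' ⟶ T) (g : T ⟶ G) (p : T ⟶ G ⊗ D₁),
      c ≫ m₁ g p = m₁ (c ≫ g) (c ≫ p) := fun c g p => by
    simp only [m₁, comp_lift, MonObj.comp_mul, Category.assoc]
  have compat : ∀ {T : Over S} (g : T ⟶ G) (p : T ⟶ G ⊗ D₁) (q : T ⟶ V₂), p ≫ inl = q ≫ inr →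
      m₁ g p ≫ inl = sm a₂ g q ≫ inr := by
    intro T g p q e
    let k := pbW.lift p q e
    have kp : k ≫ j₁ = p := pbW.lift_fst _ _ _
    have kq : k ≫ j₂ = q := pbW.lift_snd _ _ _
    let k' : T ⟶ G ⊗ W₀ := lift (g * (k ≫ fst _ _)) (k ≫ snd _ _)
    have e1 : m₁ g p = k' ≫ j₁ := by
      rw [← kp]
      refine CartesianMonoidalCategory.hom_ext _ _ ?_ ?_ <;> simp [m₁, k', j₁]
    have e2 : sm a₂ g q = k' ≫ j₂ := by
      rw [← kq]
      simp only [j₂, k', comp_sm, sm_mul, lift_fst, lift_snd_assoc, Category.assoc]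
    rw [e1, e2, Category.assoc, Category.assoc, pbW.w]
  haveI hoG1 : IsOpenImmersion (G ◁ inl).left := Groth.L25.Actions.of_whiskerLeft @IsOpenImmersion G _ ‹_›
  haveI hoG2 : IsOpenImmersion (G ◁ inr).left := Groth.L25.Actions.of_whiskerLeft @IsOpenImmersion G _ ‹_›
  let f₁ : G ⊗ (G ⊗ D₁) ⟶ Y := m₁ (fst _ _) (snd _ _) ≫ inl
  let f₂ : G ⊗ V₂ ⟶ Y := sm a₂ (fst _ _) (snd _ _) ≫ inr
  obtain ⟨fa, ⟨hfa₁, hfa₂⟩, -⟩ := Groth.L09.Quillen.glue_two (G ◁ inl).left (G ◁ inr).left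
    (fun x => (hsurj ((snd G Y).left x)).imp (mem_range_whiskerLeft G inl x) (mem_range_whiskerLeft G inr x))
    f₁.left f₂.left (fun {Z} v w hvw => by
      let T : Over S := Over.mk (v ≫ (G ⊗ (G ⊗ D₁)).hom)
      let v' : T ⟶ G ⊗ (G ⊗ D₁) := Over.homMk v
      let w' : T ⟶ G ⊗ V₂ := Over.homMk w (by
        show w ≫ _ = v ≫ _
        rw [← Over.w (G ◁ inl), ← Over.w (G ◁ inr), reassoc_of% hvw])
      have e : v' ≫ (G ◁ inl) = w' ≫ (G ◁ inr) := Over.OverMorphism.ext hvw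
      have e1 : v' ≫ fst _ _ = w' ≫ fst _ _ := by
        have := congrArg (· ≫ fst G Y) e
        simpa using this
      have e2 : (v' ≫ snd _ _) ≫ inl = (w' ≫ snd _ _) ≫ inr := by
        have := congrArg (· ≫ snd G Y) e
        simpa using this
      have h := compat (v' ≫ fst _ _) _ _ e2
      refine congrArg Over.Hom.left (show v' ≫ f₁ = w' ≫ f₂ from ?_)
      simp only [f₁, f₂]
      rw [← Category.assoc v', m₁_comp, h, ← Category.assoc w', comp_sm, e1])
  let act : G ⊗ Y ⟶ Y := Over.homMk fa (by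
    obtain ⟨f, -, hu⟩ := Groth.L09.Quillen.glue_two (G ◁ inl).left (G ◁ inr).left
      (fun x => (hsurj ((snd G Y).left x)).imp (mem_range_whiskerLeft G inl x) (mem_range_whiskerLeft G inr x))
      ((G ◁ inl).left ≫ (G ⊗ Y).hom) ((G ◁ inr).left ≫ (G ⊗ Y).hom) (fun v w h => by rw [reassoc_of% h])
    refine (hu _ ⟨?_, ?_⟩).trans (hu _ ⟨rfl, rfl⟩).symm
    · rw [reassoc_of% hfa₁, Over.w, Over.w]
    · rw [reassoc_of% hfa₂, Over.w, Over.w])
  have act₁ : ∀ {T : Over S} (g : T ⟶ G) (p : T ⟶ G ⊗ D₁), lift g (p ≫ inl) ≫ act = m₁ g p ≫ inl := by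
    intro T g p
    have h : (G ◁ inl) ≫ act = f₁ := Over.OverMorphism.ext hfa₁
    rw [show lift g (p ≫ inl) = lift g p ≫ (G ◁ inl) by simp, Category.assoc, h]
    simp only [f₁]
    rw [← Category.assoc, m₁_comp, lift_fst, lift_snd]
  have act₂ : ∀ {T : Over S} (g : T ⟶ G) (q : T ⟶ V₂), lift g (q ≫ inr) ≫ act = sm a₂ g q ≫ inr := by
    intro T g q
    have h : (G ◁ inr) ≫ act = f₂ := Over.OverMorphism.ext hfa₂
    rw [show lift g (q ≫ inr) = lift g q ≫ (G ◁ inr) by simp, Category.assoc, h]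
    simp only [f₂]
    rw [← Category.assoc, comp_sm, lift_fst, lift_snd]
  let a : AlgGrp.Action G Y :=
    { act := act
      one_act := by
        refine ext2 (λ_ Y).hom _ _ (fun {T} c p hc => ?_) (fun {T} c q hc => ?_)
        · have e : c ≫ (η[G] ▷ Y) = lift 1 (p ≫ inl) := by
            refine CartesianMonoidalCategory.hom_ext _ _ ?_ ?_
            · rw [Category.assoc, whiskerRight_fst, lift_fst, Hom.one_def, ← Category.assoc]
              exact congrArg (· ≫ η[G]) (toUnit_unique _ _)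
            · rw [Category.assoc, whiskerRight_snd, lift_snd, ← leftUnitor_hom, hc]
          rw [← Category.assoc, e, act₁, hc]
          congr 1
          refine CartesianMonoidalCategory.hom_ext _ _ ?_ ?_ <;> simp [m₁]
        · have e : c ≫ (η[G] ▷ Y) = lift 1 (q ≫ inr) := by
            refine CartesianMonoidalCategory.hom_ext _ _ ?_ ?_
            · rw [Category.assoc, whiskerRight_fst, lift_fst, Hom.one_def, ← Category.assoc]
              exact congrArg (· ≫ η[G]) (toUnit_unique _ _)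
            · rw [Category.assoc, whiskerRight_snd, lift_snd, ← leftUnitor_hom, hc]
          rw [← Category.assoc, e, act₂, hc, sm_one]
      mul_act := by
        refine ext2 (snd (G ⊗ G) Y) _ _ (fun {T} c p hc => ?_) (fun {T} c q hc => ?_)
        · have e1 : c ≫ (μ[G] ▷ Y) = lift ((c ≫ fst _ _ ≫ fst _ _) * (c ≫ fst _ _ ≫ snd _ _)) (p ≫ inl) := by
            refine CartesianMonoidalCategory.hom_ext _ _ ?_ ?_
            · simp only [Category.assoc, whiskerRight_fst, lift_fst, Hom.mul_def]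
              simp only [← Category.assoc]; congr 1
              refine CartesianMonoidalCategory.hom_ext _ _ ?_ ?_ <;> simp
            · rw [Category.assoc, whiskerRight_snd, lift_snd, hc]
          have e2 : c ≫ (α_ G G Y).hom =
              lift (c ≫ fst _ _ ≫ fst _ _) (lift (c ≫ fst _ _ ≫ snd _ _) (p ≫ inl)) := by
            rw [← hc]
            refine CartesianMonoidalCategory.hom_ext _ _ ?_ (CartesianMonoidalCategory.hom_ext _ _ ?_ ?_) <;> simp
          rw [← Category.assoc c (μ[G] ▷ Y), e1, act₁, ← Category.assoc c (α_ G G Y).hom, e2, lift_whiskerLeft_assoc, act₁, act₁]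
          congr 1
          refine CartesianMonoidalCategory.hom_ext _ _ ?_ ?_ <;> simp [m₁, _root_.mul_assoc]
        · have e1 : c ≫ (μ[G] ▷ Y) = lift ((c ≫ fst _ _ ≫ fst _ _) * (c ≫ fst _ _ ≫ snd _ _)) (q ≫ inr) := by
            refine CartesianMonoidalCategory.hom_ext _ _ ?_ ?_
            · simp only [Category.assoc, whiskerRight_fst, lift_fst, Hom.mul_def]
              simp only [← Category.assoc]; congr 1
              refine CartesianMonoidalCategory.hom_ext _ _ ?_ ?_ <;> simp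
            · rw [Category.assoc, whiskerRight_snd, lift_snd, hc]
          have e2 : c ≫ (α_ G G Y).hom =
              lift (c ≫ fst _ _ ≫ fst _ _) (lift (c ≫ fst _ _ ≫ snd _ _) (q ≫ inr)) := by
            rw [← hc]
            refine CartesianMonoidalCategory.hom_ext _ _ ?_ (CartesianMonoidalCategory.hom_ext _ _ ?_ ?_) <;> simp
          rw [← Category.assoc c (μ[G] ▷ Y), e1, act₂, ← Category.assoc c (α_ G G Y).hom, e2, lift_whiskerLeft_assoc, act₂, act₂, sm_mul] }
  have sm₁ : ∀ {T : Over S} (g : T ⟶ G) (p : T ⟶ G ⊗ D₁), sm a g (p ≫ inl) = m₁ g p ≫ inl := act₁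
  have sm₂ : ∀ {T : Over S} (g : T ⟶ G) (q : T ⟶ V₂), sm a g (q ≫ inr) = sm a₂ g q ≫ inr := act₂
  have hinv : ∀ {Z : Over S} (g : Z ⟶ G) (y : Z ⟶ Y), sm a g y ≫ π = y ≫ π := by
    intro Z g y
    refine ext2 y _ _ (fun {T} c p hc => ?_) (fun {T} c q hc => ?_)
    · rw [← Category.assoc, comp_sm, hc, sm₁, Category.assoc, eπ₁, ← Category.assoc c y π, hc,
        Category.assoc, eπ₁]
      simp [m₁]
    · rw [← Category.assoc c _ π, comp_sm, hc, sm₂, Category.assoc _ inr π, eπ₂, ← Category.assoc _ π₂ i₂,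
        h₂.sm_proj, ← Category.assoc c y π, hc, Category.assoc q inr π, eπ₂, Category.assoc]
  have huniq : ∀ {Z : Over S} (y : Z ⟶ Y) (g g' : Z ⟶ G), sm a g y = sm a g' y → g = g' := by
    intro Z y g g' e
    refine ext2 y g g' (fun {T} c p hc => ?_) (fun {T} c q hc => ?_) <;>
      have e' := congrArg (c ≫ ·) e <;> simp only [comp_sm, hc, sm₁, sm₂] at e'
    · have := congrArg (· ≫ fst G D₁) ((cancel_mono inl).mp e')
      simpa [m₁] using this
    · exact h₂.cancel ((cancel_mono inr).mp e')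
  refine ⟨{
    Y := Y, a := a, π := π
    rel := ⟨?_, fun {Z} x y hxy => ?_⟩
    s₁ := lift 1 (𝟙 _) ≫ inl
    s₁_π := by rw [Category.assoc, eπ₁, lift_snd_assoc, Category.id_comp]
    ε := inr, ε_pb := pb2
    ε_sm := fun g x => (sm₂ g x).symm
    lfp := ?_ }⟩
  · have := hinv (fst G Y) (snd G Y)
    rwa [sm, lift_fst_snd, Category.id_comp] at this
  · let c₁ := pullback.fst y.left inl.left
    let c₂ := pullback.fst y.left inr.left
    let T₁ : Over S := Over.mk (c₁ ≫ Z.hom)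
    let T₂ : Over S := Over.mk (c₂ ≫ Z.hom)
    let u₁ : T₁ ⟶ Z := Over.homMk c₁
    let u₂ : T₂ ⟶ Z := Over.homMk c₂
    let p : T₁ ⟶ G ⊗ D₁ := Over.homMk (pullback.snd y.left inl.left) (by
      show _ = c₁ ≫ Z.hom
      rw [← Over.w inl, ← Category.assoc, ← pullback.condition, Category.assoc, Over.w])
    let q : T₂ ⟶ V₂ := Over.homMk (pullback.snd y.left inr.left) (by
      show _ = c₂ ≫ Z.hom
      rw [← Over.w inr, ← Category.assoc, ← pullback.condition, Category.assoc, Over.w])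
    have hp : u₁ ≫ y = p ≫ inl := Over.OverMorphism.ext pullback.condition
    have hq : u₂ ≫ y = q ≫ inr := Over.OverMorphism.ext pullback.condition
    let p' : T₁ ⟶ G ⊗ D₁ := pb1.lift (u₁ ≫ x) (p ≫ snd _ _) (by
      rw [Category.assoc, hxy, ← Category.assoc, hp, Category.assoc, eπ₁, Category.assoc])
    have hp' : p' ≫ inl = u₁ ≫ x := pb1.lift_fst _ _ _
    have hp'' : p' ≫ snd _ _ = p ≫ snd _ _ := pb1.lift_snd _ _ _
    let q' : T₂ ⟶ V₂ := pb2.lift (u₂ ≫ x) (q ≫ π₂) (by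
      rw [Category.assoc, hxy, ← Category.assoc, hq, Category.assoc, eπ₂, Category.assoc])
    have hq' : q' ≫ inr = u₂ ≫ x := pb2.lift_fst _ _ _
    have hq'' : q' ≫ π₂ = q ≫ π₂ := pb2.lift_snd _ _ _
    let g₁ : T₁ ⟶ G := (p' ≫ fst _ _) * (p ≫ fst _ _)⁻¹
    let g₂ : T₂ ⟶ G := h₂.div q' q hq''
    have hg₁ : sm a g₁ (u₁ ≫ y) = u₁ ≫ x := by
      rw [hp, sm₁, ← hp']
      congr 1
      refine CartesianMonoidalCategory.hom_ext _ _ ?_ ?_
      · simp [m₁, g₁, _root_.mul_assoc]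
      · simp [m₁, hp'']
    have hg₂ : sm a g₂ (u₂ ≫ y) = u₂ ≫ x := by rw [hq, sm₂, ← hq', h₂.sm_div]
    have hc : ∀ z, z ∈ Set.range c₁ ∨ z ∈ Set.range c₂ := fun z => by
      rcases hsurj (y.left z) with ⟨p, hp⟩ | ⟨q, hq⟩
      · obtain ⟨w, hw, -⟩ := Scheme.Pullback.exists_preimage_pullback z p hp.symm
        exact Or.inl ⟨w, hw⟩
      · obtain ⟨w, hw, -⟩ := Scheme.Pullback.exists_preimage_pullback z q hq.symm
        exact Or.inr ⟨w, hw⟩
    obtain ⟨f, ⟨hf₁, hf₂⟩, -⟩ := Groth.L09.Quillen.glue_two c₁ c₂ hc g₁.left g₂.left (fun {W} v w hvw => by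
      let T : Over S := Over.mk (v ≫ c₁ ≫ Z.hom)
      let v' : T ⟶ T₁ := Over.homMk v
      let w' : T ⟶ T₂ := Over.homMk w (by
        show w ≫ c₂ ≫ Z.hom = v ≫ c₁ ≫ Z.hom
        rw [← Category.assoc, ← hvw, Category.assoc])
      have e : v' ≫ u₁ = w' ≫ u₂ := Over.OverMorphism.ext hvw
      refine congrArg Over.Hom.left (huniq (v' ≫ u₁ ≫ y) (v' ≫ g₁) (w' ≫ g₂) ?_)
      have e1 := congrArg (v' ≫ ·) hg₁
      have e2 := congrArg (w' ≫ ·) hg₂
      simp only [comp_sm] at e1 e2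
      rw [← Category.assoc w' u₂ x, ← e, ← Category.assoc w' u₂ y, ← e] at e2
      rw [e1]
      simpa only [Category.assoc] using e2.symm)
    have hfw : f ≫ G.hom = Z.hom := by
      obtain ⟨f', -, hu⟩ := Groth.L09.Quillen.glue_two c₁ c₂ hc (c₁ ≫ Z.hom) (c₂ ≫ Z.hom)
        (fun v w h => by rw [reassoc_of% h])
      refine (hu _ ⟨?_, ?_⟩).trans (hu _ ⟨rfl, rfl⟩).symm
      · rw [reassoc_of% hf₁]; exact Over.w g₁
      · rw [reassoc_of% hf₂]; exact Over.w g₂
    let g : Z ⟶ G := Over.homMk f hfw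
    have hu₁ : u₁ ≫ g = g₁ := Over.OverMorphism.ext hf₁
    have hu₂ : u₂ ≫ g = g₂ := Over.OverMorphism.ext hf₂
    have hgx : sm a g y = x := by
      obtain ⟨f', -, hu⟩ := Groth.L09.Quillen.glue_two c₁ c₂ hc (c₁ ≫ x.left) (c₂ ≫ x.left)
        (fun v w h => by rw [reassoc_of% h])
      ext1
      refine (hu _ ⟨?_, ?_⟩).trans (hu _ ⟨rfl, rfl⟩).symm
      · exact congrArg Over.Hom.left (show u₁ ≫ sm a g y = u₁ ≫ x by rw [comp_sm, hu₁, hg₁])
      · exact congrArg Over.Hom.left (show u₂ ≫ sm a g y = u₂ ≫ x by rw [comp_sm, hu₂, hg₂])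
    exact ⟨g, hgx, fun g' hg' => huniq y g' g (hg'.trans hgx.symm)⟩
  · intro hG hD hV
    haveI : LocallyOfFinitePresentation (G ⊗ D₁).hom := by
      rw [← Over.w (snd G D₁)]
      haveI : LocallyOfFinitePresentation (snd G D₁).left :=
        MorphismProperty.of_isPullback (P := @LocallyOfFinitePresentation)
          (Groth.L09.TorsorSch.isPullback_left G D₁) hG
      infer_instance
    let 𝒰 : Y.left.OpenCover :=
      { I₀ := ULift.{u} Bool
        X := fun b => cond b.down (G ⊗ D₁).left V₂.left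
        f := fun b => match b with
          | ⟨true⟩ => inl.left
          | ⟨false⟩ => inr.left
        mem₀ := (Scheme.ofArrows_mem_precoverage_iff _).mpr
          ⟨fun x => (hsurj x).elim (fun h => ⟨⟨true⟩, h⟩) (fun h => ⟨⟨false⟩, h⟩),
            fun b => match b with
              | ⟨true⟩ => (inferInstance : IsOpenImmersion inl.left)
              | ⟨false⟩ => (inferInstance : IsOpenImmersion inr.left)⟩ }
    refine IsZariskiLocalAtSource.of_openCover (P := @LocallyOfFinitePresentation) 𝒰 fun b => ?_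
    rcases b with ⟨_ | _⟩
    · show LocallyOfFinitePresentation (inr.left ≫ Y.hom)
      rw [Over.w]; exact hV
    · show LocallyOfFinitePresentation (inl.left ≫ Y.hom)
      rw [Over.w]; infer_instance

end Groth.L06.QuillenTriv
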