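import Groth.Agent.L09.QuillenDesc
import Groth.Agent.L05.NbhdLimit.Basic
import Groth.Agent.L19.Limit.OverBase
import Groth.Agent.L20.FibreScheme
import Mathlib.RingTheory.PolynomialAlgebra
import Mathlib.AlgebraicGeometry.Morphisms.FinitePresentation

/-!
# Sections over the affine line over a local ring spread out
-/

universe u

open CategoryTheory CategoryTheory.Limits AlgebraicGeometry Polynomial

noncomputable section

namespace Groth.L06.QuillenTriv

open Groth.L09.Patch Groth.L05

set_option backward.isDefEq.respectTransparency false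
set_option backward.isDefEq.respectTransparency.types false
set_option linter.style.haveILetI false

variable {R : Type u} [CommRing R] {V : Over (Spec (CommRingCat.of R))}

variable (R) in
/-- The map on polynomial rings. -/
abbrev polyOf (C : Type u) [CommRing C] [Algebra R C] : R[X] →ₐ[R] C[X] :=
  Polynomial.mapAlgHom (Algebra.ofId R C)

/-- There is a section over the affine line over `C`. -/
def HasSecP (π : V ⟶ spO R R[X]) (C : Type u) [CommRing C] [Algebra R C] : Prop :=
  ∃ σ : spO R C[X] ⟶ V, σ ≫ π = pm (polyOf R C)

/-- The affine line over `C` is a fibre product. -/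
lemma isPullback_poly (C : Type u) [CommRing C] [Algebra R C] :
    IsPullback (sp (polyOf R C).toRingHom) (sp (Polynomial.C : C →+* C[X]))
      (spO R R[X]).hom (spO R C).hom := by
  letI : Algebra R[X] C[X] := (Polynomial.mapRingHom (algebraMap R C)).toAlgebra
  haveI : IsScalarTower R R[X] C[X] := IsScalarTower.of_algebraMap_eq fun r => by
    show algebraMap R C[X] r = Polynomial.map (algebraMap R C) (Polynomial.C r)
    rw [Polynomial.map_C]; rfl
  haveI : Algebra.IsPushout R R[X] C C[X] := inferInstance
  have h := CommRingCat.isPushout_of_isPushout R R[X] C C[X]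
  exact isPullback_SpecMap_of_isPushout _ _ _ _ h

/-- **Spreading out**: a section over the affine line over a local ring comes from a neighbourhood. -/
theorem exists_hasSecP_away (π : V ⟶ spO R R[X]) [LocallyOfFinitePresentation V.hom]
    (p : Ideal R) [p.IsPrime] (h : HasSecP π (Localization.AtPrime p)) :
    ∃ r : R, r ∉ p ∧ HasSecP π (Localization.Away r) := by
  obtain ⟨σ, hσ⟩ := h
  let L := Localization.AtPrime p
  haveI : LocallyOfFinitePresentation π.left := by
    haveI : LocallyOfFinitePresentation (π.left ≫ (spO R R[X]).hom) := by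
      rw [Over.w]; infer_instance
    haveI : LocallyOfFiniteType (spO R R[X]).hom :=
      (HasRingHomProperty.Spec_iff (P := @LocallyOfFiniteType)).mpr
        (RingHom.finiteType_algebraMap.mpr inferInstance)
    exact Groth.L20.locallyOfFinitePresentation_of_comp π.left (spO R R[X]).hom
  let q := (spO R R[X]).hom
  let t : ∀ j, (NbhdLimit.D p).obj j ⟶ Spec (CommRingCat.of R) := fun j => (NbhdLimit.toBase p).app j
  have ht : ∀ {i j : NbhdLimit.Idx p} (φ : i ⟶ j), (NbhdLimit.D p).map φ ≫ t j = t i := fun {i j} φ =>
    ((NbhdLimit.toBase p).naturality φ).trans (Category.comp_id _)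
  let T : (NbhdLimit.cone p L).pt ⟶ Spec (CommRingCat.of R) := (spO R L).hom
  have hT : ∀ i, (NbhdLimit.cone p L).π.app i ≫ t i = T := fun i => NbhdLimit.cone_π_toBase p L i
  let D := Groth.L19.Limit.baseDiagram q t ht
  haveI : ∀ {i j : NbhdLimit.Idx p} (φ : i ⟶ j), IsAffineHom (D.map φ) := fun φ =>
    Groth.L19.Limit.isAffineHom_baseDiagram_map q t ht φ
  haveI hA : ∀ j, IsAffine (D.obj j) := fun j => by
    haveI : IsAffine ((NbhdLimit.D p).obj j) := inferInstance
    haveI : IsAffine (spO R R[X]).left := inferInstanceAs (IsAffine (Spec _))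
    exact inferInstanceAs (IsAffine (pullback q (t j)))
  haveI : ∀ j, CompactSpace (D.obj j) := fun j => inferInstance
  haveI : ∀ j, QuasiSeparatedSpace (D.obj j) := fun j => inferInstance
  let eL : pullback q T ⟶ Spec (CommRingCat.of L[X]) := (isPullback_poly (R := R) L).isoPullback.inv
  let b : (Groth.L19.Limit.baseCone q t ht T hT).pt ⟶ V.left := eL ≫ σ.left
  obtain ⟨j, g, -, hg⟩ := Scheme.exists_π_app_comp_eq_of_locallyOfFinitePresentation D
    { app := fun k => pullback.fst q (t k)
      naturality := fun k l φ => by simp [D, Groth.L19.Limit.baseDiagram] }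
    π.left (Groth.L19.Limit.baseCone q t ht T hT)
    (Groth.L19.Limit.isLimitBaseCone q t ht T hT (NbhdLimit.isLimitCone p L)) b (by
      ext k : 2
      show (Groth.L19.Limit.baseCone q t ht T hT).π.app k ≫ pullback.fst q (t k) = b ≫ π.left
      have e1 : σ.left ≫ π.left = sp (polyOf R L).toRingHom := congrArg Over.Hom.left hσ
      rw [show b ≫ π.left = eL ≫ σ.left ≫ π.left from Category.assoc _ _ _, e1,
        IsPullback.isoPullback_inv_fst]
      simp [Groth.L19.Limit.baseCone]
      rfl)
  let r : R := j.val
  let A := Localization.Away r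
  let e : Spec (CommRingCat.of A[X]) ⟶ pullback q (t j) := (isPullback_poly (R := R) A).isoPullback.hom
  have hge : (e ≫ g) ≫ π.left = sp (polyOf R A).toRingHom := by
    rw [Category.assoc, hg]
    exact (isPullback_poly (R := R) A).isoPullback_hom_fst
  refine ⟨r, j.notMem, Over.homMk (e ≫ g) ?_, Over.OverMorphism.ext hge⟩
  show (e ≫ g) ≫ V.hom = (spO R A[X]).hom
  rw [← Over.w π, ← Category.assoc, hge]
  exact Over.w (pm (polyOf R A))

end Groth.L06.QuillenTriv
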