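import Groth.Agent.L06.QuillenTriv.Patch
import Groth.Agent.L06.QuillenTriv.Spread
import Groth.Agent.L09.QuillenTransport
import Mathlib.RingTheory.AdjoinRoot
import Mathlib.AlgebraicGeometry.Sites.Fpqc
import Mathlib.AlgebraicGeometry.Morphisms.LocalFlatDescent
import Mathlib.Algebra.MvPolynomial.Equiv

/-!
# Torsors over the affine line with a rational point which are locally trivial on the base
-/

universe u

open CategoryTheory CategoryTheory.Limits MonoidalCategory CartesianMonoidalCategory MonObj
  AlgebraicGeometry Polynomial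

noncomputable section

namespace Groth.L06.QuillenTriv

open Groth.L09.Patch Groth.L09.TorsorPts Groth.L09.Conv Groth.L09.Quillen

set_option backward.isDefEq.respectTransparency false
set_option backward.isDefEq.respectTransparency.types false
set_option linter.style.haveILetI false

variable {R : Type u} [CommRing R]

/-- The structure map of the affine line. -/
abbrev d0 (R : Type u) [CommRing R] : Spec (CommRingCat.of R[X]) ⟶ Spec (CommRingCat.of R) :=
  Spec.map (CommRingCat.ofHom (algebraMap R R[X]))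

/-- The hypothesis on the localisations: torsors over the affine line over the local ring trivial
away from a finite closed subscheme are trivial. -/
def HLoc (G : Over (Spec (CommRingCat.of R))) [GrpObj G] (m : Ideal R) [m.IsMaximal] : Prop :=
  ∀ Y : NonAbH1.TorsorSch (Red.bc (d0 (Localization.AtPrime m))
      (Red.bc (Spec.map (CommRingCat.ofHom (algebraMap R (Localization.AtPrime m)))) G))
      Scheme.fppfPrecoverage,
    (∃ I : Ideal (Localization.AtPrime m)[X],
      Module.Finite (Localization.AtPrime m) ((Localization.AtPrime m)[X] ⧸ I) ∧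
        NonAbH1.HasSectionOver Y.X (Scheme.Opens.ι
          (⟨(PrimeSpectrum.zeroLocus (I : Set (Localization.AtPrime m)[X]))ᶜ,
            (PrimeSpectrum.isClosed_zeroLocus _).isOpen_compl⟩ :
              (Spec (CommRingCat.of (Localization.AtPrime m)[X])).Opens))) →
    NonAbH1.HasSectionOver Y.X (𝟙 (Spec (CommRingCat.of (Localization.AtPrime m)[X])))

variable {G : Over (Spec (CommRingCat.of R))} [GrpObj G]
  (X : NonAbH1.TorsorSch (Red.bc (d0 R) G) Scheme.fppfPrecoverage)

/-- The torsor over the base ring. -/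
abbrev tV : Over (Spec (CommRingCat.of R)) := obS (d0 R) X.X

/-- Its projection to the affine line. -/
abbrev tπ : tV X ⟶ spO R R[X] := prS (d0 R) X.X

lemma tRel : RelPseudo (toS X.act) (tπ X) := relPseudo_toS X.isTorsor.1

lemma lfp_tV [LocallyOfFinitePresentation G.hom] : LocallyOfFinitePresentation (tV X).hom := by
  have hG : LocallyOfFinitePresentation (Red.bc (d0 R) G).hom :=
    MorphismProperty.pullback_snd _ _ ‹_›
  haveI : LocallyOfFinitePresentation X.X.hom :=
    Groth.L09.TorsorSch.of_grp @LocallyOfFinitePresentation X.act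
      ⟨X.isTorsor.1, X.isTorsor.2.imp fun _ h => ⟨Scheme.fppfPrecoverage_le_fpqcPrecoverage _ h.1, h.2⟩⟩ hG
  haveI : LocallyOfFinitePresentation (d0 R) :=
    (HasRingHomProperty.Spec_iff (P := @LocallyOfFinitePresentation)).mpr
      (RingHom.finitePresentation_algebraMap.mpr inferInstance)
  exact inferInstanceAs (LocallyOfFinitePresentation (X.X.hom ≫ d0 R))

/-- **The local step**: a torsor which is trivial away from a monic polynomial over a local ring is
trivial over it. -/
lemma hasSecP_atPrime (m : Ideal R) [m.IsMaximal] (H : HLoc G m) (f : (Localization.AtPrime m)[X])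
    (hf : f.Monic)
    (σ : NonAbH1.HasSectionOver X.X (jaw f ≫ sp (polyOf R (Localization.AtPrime m)).toRingHom)) :
    HasSecP (tπ X) (Localization.AtPrime m) := by
  let L := Localization.AtPrime m
  let fL : Spec (CommRingCat.of L[X]) ⟶ Spec (CommRingCat.of R[X]) := sp (polyOf R L).toRingHom
  let e : Spec (CommRingCat.of L) ⟶ Spec (CommRingCat.of R) :=
    Spec.map (CommRingCat.ofHom (algebraMap R L))
  have h : fL ≫ d0 R = (spO R L[X]).hom := Over.w (pm (polyOf R L))
  have h' : d0 L ≫ e = (spO R L[X]).hom := by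
    show sp _ ≫ sp _ = sp _
    rw [sp_comp, ← IsScalarTower.algebraMap_eq]
  let Y : NonAbH1.TorsorSch (Red.bc (d0 L) (Red.bc e G)) Scheme.fppfPrecoverage :=
    { X := Red.bc fL X.X
      act := restrictComp e h' (bcR fL h X.act)
      isTorsor := isTorsor_restrict _ (isTorsor_bcR fL h X.isTorsor) }
  obtain ⟨s, hs⟩ := σ
  let U : (Spec (CommRingCat.of L[X])).Opens :=
    ⟨(PrimeSpectrum.zeroLocus ((Ideal.span {f} : Ideal L[X]) : Set L[X]))ᶜ,
      (PrimeSpectrum.isClosed_zeroLocus _).isOpen_compl⟩
  have hU : Set.range U.ι ⊆ Set.range (jaw f) := by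
    intro z hz
    rw [range_jaw]
    rw [Scheme.Opens.range_ι] at hz
    rw [PrimeSpectrum.basicOpen_eq_zeroLocus_compl]
    simpa [U, PrimeSpectrum.zeroLocus_span] using hz
  let l := IsOpenImmersion.lift (jaw f) U.ι hU
  have hl : l ≫ jaw f = U.ι := IsOpenImmersion.lift_fac _ _ _
  obtain ⟨t, ht⟩ := H Y ⟨Ideal.span {f}, hf.finite_quotient,
    pullback.lift (l ≫ s) U.ι (by rw [Category.assoc, hs, reassoc_of% hl]), pullback.lift_snd _ _ _⟩
  have ht' : (t ≫ pullback.fst X.X.hom fL) ≫ X.X.hom = fL := by
    rw [Category.assoc, pullback.condition, ← Category.assoc]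
    exact (congrArg (· ≫ fL) ht).trans (Category.id_comp _)
  refine ⟨Over.homMk (t ≫ pullback.fst X.X.hom fL) ?_, Over.OverMorphism.ext ht'⟩
  show (t ≫ _) ≫ X.X.hom ≫ d0 R = _
  rw [← Category.assoc, ht', h]

variable {C : Type u} [CommRing C] [Algebra R C]

/-- The substitution `T ↦ X - a`. -/
def toPoly (C : Type u) [CommRing C] [Algebra R C] (a : C) : MvPolynomial PUnit.{u + 1} C →ₐ[R] C[X] :=
  mvSub (IsScalarTower.toAlgHom R C C[X]) fun _ => Polynomial.X - Polynomial.C a

/-- The substitution `X ↦ T + a`. -/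
def ofPoly (C : Type u) [CommRing C] [Algebra R C] (a : C) : C[X] →ₐ[R] MvPolynomial PUnit.{u + 1} C :=
  { Polynomial.eval₂RingHom (MvPolynomial.C : C →+* MvPolynomial PUnit.{u + 1} C)
      (MvPolynomial.X PUnit.unit + MvPolynomial.C a) with
    commutes' := fun r => by
      show Polynomial.eval₂ _ _ (Polynomial.C (algebraMap R C r)) = _
      rw [Polynomial.eval₂_C]; rfl }

lemma ofPoly_C (a c : C) : ofPoly (R := R) C a (Polynomial.C c) = MvPolynomial.C c :=
  Polynomial.eval₂_C _ _

lemma ofPoly_X (a : C) : ofPoly (R := R) C a Polynomial.X = MvPolynomial.X PUnit.unit + MvPolynomial.C a :=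
  Polynomial.eval₂_X _ _

lemma poly_ext {E : Type u} [CommRing E] [Algebra R E] {φ ψ : C[X] →ₐ[R] E}
    (hC : ∀ c, φ (Polynomial.C c) = ψ (Polynomial.C c)) (hX : φ Polynomial.X = ψ Polynomial.X) : φ = ψ :=
  AlgHom.coe_ringHom_injective (Polynomial.ringHom_ext hC hX)

/-- The hypothesis of being trivial over every localisation gives triviality, given a point. -/
theorem hasSection_of_point [LocallyOfFinitePresentation G.hom]
    (hl : ∀ (m : Ideal R) [m.IsMaximal], HasSecP (tπ X) (Localization.AtPrime m))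
    (a : R) (e : spO R R ⟶ tV X) (he : e ≫ tπ X = pm (Polynomial.aeval a)) :
    NonAbH1.HasSectionOver X.X (𝟙 (Spec (CommRingCat.of R[X]))) := by
  haveI := lfp_tV X
  let φ := toPoly (R := R) R a
  have h1 : (toPoly (R := R) R a).comp (ofPoly R a) = AlgHom.id R _ :=
    poly_ext (fun c => by simp [toPoly, ofPoly_C]) (by simp [toPoly, ofPoly_X])
  have h2 : (ofPoly (R := R) R a).comp (toPoly R a) = AlgHom.id R _ :=
    mv_ext (fun c => by simp [toPoly, ofPoly_C]) (fun i => by cases i; simp [toPoly, ofPoly_X, ofPoly_C])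
  haveI : IsIso (pm φ) := ⟨pm (ofPoly R a), by rw [pm_comp, h1, pm_id], by rw [pm_comp, h2, pm_id]⟩
  have hV : RelPseudo (toS X.act) (tπ X ≫ pm φ) := relPseudo_comp (tRel X) _
  have he' : e ≫ tπ X ≫ pm φ = pm (zeroA (n := PUnit.{u + 1}) (R := R) R) := by
    rw [reassoc_of% he, pm_comp]
    congr 1
    exact mv_ext (fun c => by simp [φ, toPoly, zeroA]) (fun i => by simp [φ, toPoly, zeroA])
  obtain ⟨σ, hσ⟩ := exists_section_mv hV e he' fun m hm => by
    obtain ⟨r, hr, σ, hσ⟩ := exists_hasSecP_away (tπ X) m (hl m)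
    let A := Localization.Away r
    refine ⟨r, hr, pm (ofPoly A (algebraMap R A a)) ≫ σ, ?_⟩
    rw [Category.assoc, reassoc_of% hσ, pm_comp, pm_comp]
    congr 1
    exact mv_ext (fun c => by simp [φ, toPoly, ofPoly_C])
      (fun i => by
        cases i
        show ofPoly (R := R) A _ (Polynomial.map (algebraMap R A) (mvSub _ _ (MvPolynomial.X PUnit.unit))) = _
        simp [ofPoly_C, ofPoly_X])
  have hσ' : σ ≫ tπ X ≫ pm φ = 𝟙 _ := by
    rw [hσ, show mvOf (R := R) PUnit.{u + 1} R = AlgHom.id R _ from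
      mv_ext (fun c => by simp) (fun i => by simp), pm_id]
  have hs : (pm φ ≫ σ) ≫ tπ X = 𝟙 _ := by
    rw [← cancel_mono (pm φ)]
    simp only [Category.assoc, hσ', Category.id_comp, Category.comp_id]
  exact ⟨(pm φ ≫ σ).left, congrArg Over.Hom.left hs⟩

end Groth.L06.QuillenTriv
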