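import Groth.Agent.L06.QuillenTriv.Glue
import Groth.Agent.L06.QuillenTriv.Local
import Mathlib.Algebra.Polynomial.Reverse

/-!
# Torsors over the affine line trivial away from a finite subscheme: from local rings to the ring
-/

universe u

open CategoryTheory CategoryTheory.Limits MonoidalCategory CartesianMonoidalCategory MonObj
  AlgebraicGeometry Polynomial

noncomputable section

namespace Groth.L06.QuillenTriv

open Groth.L09.Patch Groth.L09.TorsorPts Groth.L09.Conv

set_option backward.isDefEq.respectTransparency false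
set_option backward.isDefEq.respectTransparency.types false
set_option linter.style.haveILetI false

variable {R : Type u} [CommRing R]

/-- `R[u, 1/u]`. -/
abbrev Au (R : Type u) [CommRing R] : Type u := Localization.Away (Polynomial.X : R[X])

/-- `X ↦ 1/u`. -/
def nu (R : Type u) [CommRing R] : R[X] →ₐ[R] Au R :=
  Polynomial.aeval (IsLocalization.Away.invSelf (Polynomial.X : R[X]) : Au R)

/-- The reversed polynomial is the polynomial at `1/u`, up to a unit. -/
lemma nu_eq (h : R[X]) : nu R h = algebraMap R[X] (Au R) h.reverse *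
    (IsLocalization.Away.invSelf (Polynomial.X : R[X]) : Au R) ^ h.natDegree := by
  let x : Au R := IsLocalization.Away.invSelf (Polynomial.X : R[X])
  letI : Invertible x := invertibleOfLeftInverse x (algebraMap R[X] (Au R) Polynomial.X)
    (IsLocalization.Away.mul_invSelf _)
  have hi : ⅟x = algebraMap R[X] (Au R) Polynomial.X := rfl
  have e : Polynomial.eval₂ (algebraMap R (Au R)) (⅟x) h.reverse = algebraMap R[X] (Au R) h.reverse := by
    rw [hi, ← Polynomial.aeval_def, Polynomial.aeval_algebraMap_apply, Polynomial.aeval_X_left_apply]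
  rw [← e]
  exact (Polynomial.eval₂_reverse_mul_pow (algebraMap R (Au R)) x h).symm

variable {G : Over (Spec (CommRingCat.of R))} [GrpObj G] [LocallyOfFinitePresentation G.hom]

omit [LocallyOfFinitePresentation G.hom] in
lemma exists_section_jaw {Z : Scheme.{u}} {A : Type u} [CommRing A] {f : A} {M : Over (Spec (CommRingCat.of A))}
    (hM : NonAbH1.HasSectionOver M (jaw f)) (q : Z ⟶ Spec (CommRingCat.of A))
    (hq : Set.range q ⊆ Set.range (jaw f)) : NonAbH1.HasSectionOver M q := by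
  obtain ⟨s, hs⟩ := hM
  exact ⟨IsOpenImmersion.lift (jaw f) q hq ≫ s, by rw [Category.assoc, hs, IsOpenImmersion.lift_fac]⟩

/-- **The gluing at infinity and patching.** -/
theorem hasSection_of_hloc (H : ∀ (m : Ideal R) [m.IsMaximal], HLoc G m)
    (X : NonAbH1.TorsorSch (Red.bc (d0 R) G) Scheme.fppfPrecoverage) (h : R[X]) (hh : h.Monic)
    (hX : NonAbH1.HasSectionOver X.X (jaw h)) :
    NonAbH1.HasSectionOver X.X (𝟙 (Spec (CommRingCat.of R[X]))) := by
  -- local triviality of `X`
  have hlX : ∀ (m : Ideal R) [m.IsMaximal], HasSecP (tπ X) (Localization.AtPrime m) := fun m _ => by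
    refine hasSecP_atPrime X m (H m) (h.map (algebraMap R (Localization.AtPrime m))) (hh.map _)
      (exists_section_jaw hX _ ?_)
    rintro _ ⟨z, rfl⟩
    have hz : jaw (h.map (algebraMap R (Localization.AtPrime m))) z ∈
      Set.range (jaw (h.map (algebraMap R (Localization.AtPrime m)))) := ⟨z, rfl⟩
    rw [range_jaw] at hz ⊢
    exact hz
  -- the torsor on the chart at infinity
  let g : R[X] := h.reverse
  let j₁ := jaw g
  let j₂ := jaw (Polynomial.X : R[X])
  let d₂ : Spec (CommRingCat.of (Au R)) ⟶ Spec (CommRingCat.of R) := (spO R (Au R)).hom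
  have hν : sp (nu R).toRingHom ≫ d0 R = d₂ := Over.w (pm (nu R))
  have hj : j₂ ≫ d0 R = d₂ := by
    show sp _ ≫ sp _ = sp _
    rw [sp_comp, ← IsScalarTower.algebraMap_eq]
  let X₂ : Over (Spec (CommRingCat.of (Au R))) := Red.bc (sp (nu R).toRingHom) X.X
  let a₂' : AlgGrp.Action (Red.bc j₂ (Red.bc (d0 R) G)) X₂ :=
    restrictComp (d0 R) hj (bcR (sp (nu R).toRingHom) hν X.act)
  let V₂ := obS j₂ X₂
  let a₂ : AlgGrp.Action (Red.bc (d0 R) G) V₂ := toS a₂'
  have h₂ : RelPseudo a₂ (prS j₂ X₂) :=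
    relPseudo_toS (isPseudo_restrict _ (isPseudo_bcR (sp (nu R).toRingHom) hν X.isTorsor.1))
  let D₁ : Over (Spec (CommRingCat.of R[X])) := Over.mk j₁
  let D₂ : Over (Spec (CommRingCat.of R[X])) := Over.mk j₂
  let W₀ : Over (Spec (CommRingCat.of R[X])) := Over.mk (pullback.fst j₁ j₂ ≫ j₁)
  let k₁ : W₀ ⟶ D₁ := Over.homMk (pullback.fst j₁ j₂)
  let k₂ : W₀ ⟶ D₂ := Over.homMk (pullback.snd j₁ j₂) pullback.condition.symm
  have hk : IsPullback k₁ k₂ (toUnit D₁) (toUnit D₂) :=
    isPullback_over (IsPullback.of_hasPullback j₁ j₂)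
  haveI : IsOpenImmersion (toUnit D₁).left := inferInstanceAs (IsOpenImmersion j₁)
  haveI : IsOpenImmersion (toUnit D₂).left := inferInstanceAs (IsOpenImmersion j₂)
  obtain ⟨s₀, hs₀⟩ := exists_section_jaw hX (pullback.snd j₁ j₂ ≫ sp (nu R).toRingHom) (by
    rintro _ ⟨z, rfl⟩
    rw [range_jaw]
    let p : PrimeSpectrum (Au R) := pullback.snd j₁ j₂ z
    have hg : j₂ p ∈ Set.range j₁ := ⟨pullback.fst j₁ j₂ z, by
      show (pullback.fst j₁ j₂ ≫ j₁) z = (pullback.snd j₁ j₂ ≫ j₂) z
      rw [pullback.condition]⟩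
    rw [range_jaw] at hg
    have hg' : algebraMap R[X] (Au R) g ∉ p.asIdeal := hg
    show nu R h ∉ p.asIdeal
    rw [nu_eq]
    intro hmem
    rcases p.isPrime.mem_or_mem hmem with h1 | h1
    · exact hg' h1
    · have hu : IsUnit ((IsLocalization.Away.invSelf (Polynomial.X : R[X]) : Au R) ^ h.natDegree) :=
        (IsUnit.of_mul_eq_one_right _ (IsLocalization.Away.mul_invSelf _)).pow _
      exact p.isPrime.ne_top (Ideal.eq_top_of_isUnit_mem _ h1 hu))
  let σ₀ : W₀ ⟶ V₂ := Over.homMk (pullback.lift s₀ (pullback.snd j₁ j₂) hs₀) (by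
    show pullback.lift _ _ _ ≫ pullback.snd _ _ ≫ j₂ = pullback.fst j₁ j₂ ≫ j₁
    rw [pullback.lift_snd_assoc, pullback.condition])
  have hσ₀ : σ₀ ≫ prS j₂ X₂ = k₂ := Over.OverMorphism.ext (pullback.lift_snd _ _ _)
  have hcov : ∀ b, b ∈ Set.range (toUnit D₁).left ∨ b ∈ Set.range (toUnit D₂).left := fun b => by
    change b ∈ Set.range j₁ ∨ b ∈ Set.range j₂
    rw [range_jaw, range_jaw]
    show g ∉ (show PrimeSpectrum R[X] from b).asIdeal ∨ Polynomial.X ∉ (show PrimeSpectrum R[X] from b).asIdeal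
    generalize (show PrimeSpectrum R[X] from b) = q
    by_contra hc
    push_neg at hc
    obtain ⟨t, ht⟩ := Polynomial.X_dvd_sub_C (p := g)
    refine q.isPrime.ne_top ((Ideal.eq_top_iff_one _).mpr ?_)
    have h1 : g.coeff 0 = 1 := by rw [Polynomial.coeff_zero_reverse]; exact hh
    rw [h1, map_one] at ht
    have := q.asIdeal.sub_mem hc.1 (q.asIdeal.mul_mem_right t hc.2)
    rwa [← ht, sub_sub_cancel] at this
  obtain ⟨gl⟩ := exists_glued hk h₂ σ₀ hσ₀ hcov
  have hπ : RelPseudo gl.a (toUnit gl.Y) := by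
    rw [← toUnit_unique gl.π (toUnit gl.Y)]; exact gl.rel
  have hloctriv : NonAbH1.IsLocallyTrivialFor Scheme.fppfPrecoverage gl.Y := by
    obtain ⟨C₂, hC₂, hs⟩ := (isTorsor_bcR (sp (nu R).toRingHom) hν X.isTorsor).2
    refine ⟨fun Z f => (∃ f₂ : Z ⟶ Spec (CommRingCat.of (Au R)), C₂ f₂ ∧ f₂ ≫ j₂ = f) ∨
      ∃ e : Z ⟶ Spec (CommRingCat.of (Localization.Away g)), IsIso e ∧ e ≫ j₁ = f, ⟨?_, ?_⟩, ?_⟩
    · intro b
      rcases hcov b with ⟨y, hy⟩ | ⟨y, hy⟩
      · exact ⟨_, _, Presieve.map.of (u := j₁) (Or.inr ⟨𝟙 _, inferInstance, Category.id_comp _⟩), y, hy⟩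
      · obtain ⟨_, _, @⟨Z, f₂, hf₂⟩, z, hz⟩ := hC₂.1 y
        refine ⟨_, _, Presieve.map.of (u := f₂ ≫ j₂) (Or.inl ⟨f₂, hf₂, rfl⟩), z, ?_⟩
        exact (congrArg j₂ hz).trans hy
    · rintro Z f (⟨f₂, hf₂, rfl⟩ | ⟨e, he, rfl⟩)
      · have hh' := hC₂.2 hf₂
        haveI : Flat f₂ := hh'.1
        haveI : LocallyOfFinitePresentation f₂ := hh'.2
        exact ⟨inferInstanceAs (Flat (f₂ ≫ j₂)), inferInstanceAs (LocallyOfFinitePresentation (f₂ ≫ j₂))⟩
      · exact ⟨inferInstanceAs (Flat (e ≫ j₁)), inferInstanceAs (LocallyOfFinitePresentation (e ≫ j₁))⟩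
    · rintro Z f (⟨f₂, hf₂, rfl⟩ | ⟨e, he, rfl⟩)
      · obtain ⟨t, ht⟩ := hs f₂ hf₂
        refine ⟨t ≫ gl.ε.left, ?_⟩
        rw [Category.assoc, Over.w gl.ε]
        show t ≫ X₂.hom ≫ j₂ = _
        rw [← Category.assoc, ht]
      · exact ⟨e ≫ gl.s₁.left, by rw [Category.assoc, Over.w gl.s₁]; rfl⟩
  let Y : NonAbH1.TorsorSch (Red.bc (d0 R) G) Scheme.fppfPrecoverage :=
    { X := gl.Y, act := gl.a, isTorsor := ⟨isPseudo_of_relPseudo hπ, hloctriv⟩ }
  -- local triviality of the glued torsor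
  have hlY : ∀ (m : Ideal R) [m.IsMaximal], HasSecP (tπ Y) (Localization.AtPrime m) := fun m _ => by
    let L := Localization.AtPrime m
    refine hasSecP_atPrime Y m (H m) Polynomial.X Polynomial.monic_X ?_
    obtain ⟨σ, hσ⟩ := hlX m
    have hσ' : σ.left ≫ X.X.hom = sp (polyOf R L).toRingHom := congrArg Over.Hom.left hσ
    let AL := Localization.Away (Polynomial.X : L[X])
    let φ : R[X] →+* AL := (algebraMap L[X] AL).comp (polyOf R L).toRingHom
    have hu : IsUnit (φ Polynomial.X) := by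
      show IsUnit (algebraMap L[X] AL (Polynomial.map (algebraMap R L) Polynomial.X))
      rw [Polynomial.map_X]
      exact IsLocalization.Away.algebraMap_isUnit _
    let w₂ : Au R →+* AL := IsLocalization.Away.lift Polynomial.X hu
    let νL : L[X] →+* AL := Polynomial.eval₂RingHom ((algebraMap L[X] AL).comp Polynomial.C)
      (IsLocalization.Away.invSelf (Polynomial.X : L[X]))
    have key : νL.comp (polyOf R L).toRingHom = w₂.comp (nu R).toRingHom := by
      refine Polynomial.ringHom_ext (fun r => ?_) ?_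
      · show νL (Polynomial.map (algebraMap R L) (Polynomial.C r)) = w₂ (nu R (Polynomial.C r))
        rw [nu, Polynomial.aeval_C, IsScalarTower.algebraMap_apply R R[X] (Au R),
          Polynomial.map_C]
        show νL (Polynomial.C (algebraMap R L r)) = w₂ (algebraMap R[X] (Au R) (Polynomial.C r))
        rw [IsLocalization.Away.lift_eq]
        show Polynomial.eval₂ _ _ (Polynomial.C _) = algebraMap L[X] AL (Polynomial.map _ (Polynomial.C r))
        rw [Polynomial.eval₂_C, Polynomial.map_C]; rfl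
      · show νL (Polynomial.map (algebraMap R L) Polynomial.X) = w₂ (nu R Polynomial.X)
        rw [nu, Polynomial.aeval_X, Polynomial.map_X]
        show Polynomial.eval₂ _ _ Polynomial.X = _
        rw [Polynomial.eval₂_X]
        have e1 := congrArg w₂ (IsLocalization.Away.mul_invSelf (S := Au R) (Polynomial.X : R[X]))
        rw [map_mul, IsLocalization.Away.lift_eq, map_one,
          show φ Polynomial.X = algebraMap L[X] AL Polynomial.X from
            congrArg (algebraMap L[X] AL) (Polynomial.map_X (algebraMap R L))] at e1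
        exact (IsLocalization.Away.algebraMap_isUnit (Polynomial.X : L[X])).mul_left_cancel
          ((IsLocalization.Away.mul_invSelf _).trans e1.symm)
    let t : Spec (CommRingCat.of AL) ⟶ X₂.left := pullback.lift (sp νL ≫ σ.left) (sp w₂) (by
      rw [Category.assoc, hσ', sp_comp, sp_comp, key])
    refine ⟨t ≫ gl.ε.left, ?_⟩
    rw [Category.assoc]
    show t ≫ gl.ε.left ≫ gl.Y.hom = _
    rw [Over.w gl.ε]
    show t ≫ pullback.snd _ _ ≫ j₂ = _
    rw [pullback.lift_snd_assoc, sp_comp, sp_comp, IsLocalization.Away.lift_comp]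
  -- the point at zero
  have hg0 : IsUnit (Polynomial.aeval (0 : R) g) := by
    rw [← Polynomial.coeff_zero_eq_aeval_zero, Polynomial.coeff_zero_reverse, hh.leadingCoeff]
    exact isUnit_one
  let z₀ : Spec (CommRingCat.of R) ⟶ Spec (CommRingCat.of (Localization.Away g)) :=
    sp (IsLocalization.Away.lift g (g := (Polynomial.aeval (0 : R)).toRingHom) hg0)
  have hz₀ : z₀ ≫ j₁ = sp (Polynomial.aeval (0 : R)).toRingHom := by
    rw [sp_comp, IsLocalization.Away.lift_comp]
  have hs₁ : (z₀ ≫ gl.s₁.left) ≫ gl.Y.hom = sp (Polynomial.aeval (0 : R)).toRingHom := by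
    rw [Category.assoc, Over.w gl.s₁]; exact hz₀
  let e₀ : spO R R ⟶ tV Y := Over.homMk (z₀ ≫ gl.s₁.left) (by
    show (z₀ ≫ gl.s₁.left) ≫ gl.Y.hom ≫ d0 R = _
    rw [← Category.assoc, hs₁]
    exact Over.w (pm (Polynomial.aeval (0 : R))))
  obtain ⟨sY, hsY⟩ := hasSection_of_point Y hlY 0 e₀ (Over.OverMorphism.ext hs₁)
  -- the point at one
  have hg1 : IsUnit (Polynomial.aeval (1 : R) (Polynomial.X : R[X])) := by
    rw [Polynomial.aeval_X]; exact isUnit_one
  let ev : Au R →+* R :=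
    IsLocalization.Away.lift (Polynomial.X : R[X]) (g := (Polynomial.aeval (1 : R)).toRingHom) hg1
  have hev : ev.comp (nu R).toRingHom = (Polynomial.aeval (1 : R)).toRingHom := by
    refine Polynomial.ringHom_ext (fun r => ?_) ?_
    · show ev (nu R (Polynomial.C r)) = Polynomial.aeval (1 : R) (Polynomial.C r)
      rw [nu, Polynomial.aeval_C, IsScalarTower.algebraMap_apply R R[X] (Au R)]
      exact IsLocalization.Away.lift_eq _ _ _
    · show ev (nu R Polynomial.X) = Polynomial.aeval (1 : R) Polynomial.X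
      rw [nu, Polynomial.aeval_X, Polynomial.aeval_X]
      have e1 := congrArg ev (IsLocalization.Away.mul_invSelf (S := Au R) (Polynomial.X : R[X]))
      rw [map_mul, IsLocalization.Away.lift_eq, map_one] at e1
      simpa using e1
  let t₁ : Spec (CommRingCat.of R) ⟶ V₂.left :=
    (isPullback_left gl.ε_pb).lift (sp ev ≫ j₂ ≫ sY) (sp ev) (by
      have eπ : gl.π.left = gl.Y.hom :=
        (Category.comp_id gl.π.left).symm.trans (Over.w gl.π)
      rw [eπ, Category.assoc, Category.assoc]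
      show sp ev ≫ j₂ ≫ sY ≫ Y.X.hom = sp ev ≫ j₂
      rw [hsY, Category.comp_id])
  have ht₁ : t₁ ≫ pullback.snd X.X.hom (sp (nu R).toRingHom) = sp ev :=
    (isPullback_left gl.ε_pb).lift_snd _ _ _
  have hp : (t₁ ≫ pullback.fst X.X.hom (sp (nu R).toRingHom)) ≫ X.X.hom =
      sp (Polynomial.aeval (1 : R)).toRingHom := by
    rw [Category.assoc, pullback.condition, ← Category.assoc, ht₁, sp_comp, hev]
  let e₁ : spO R R ⟶ tV X := Over.homMk (t₁ ≫ pullback.fst X.X.hom (sp (nu R).toRingHom)) (by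
    show (t₁ ≫ _) ≫ X.X.hom ≫ d0 R = _
    rw [← Category.assoc, hp]
    exact Over.w (pm (Polynomial.aeval (1 : R))))
  exact hasSection_of_point X hlX 1 e₁ (Over.OverMorphism.ext hp)

/-- The version with a finite closed subscheme. -/
theorem hasSection_of_finite (H : ∀ (m : Ideal R) [m.IsMaximal], HLoc G m)
    (X : NonAbH1.TorsorSch (Red.bc (d0 R) G) Scheme.fppfPrecoverage)
    (I : Ideal R[X]) [Module.Finite R (R[X] ⧸ I)]
    (hX : NonAbH1.HasSectionOver X.X (Scheme.Opens.ι
      (⟨(PrimeSpectrum.zeroLocus (I : Set R[X]))ᶜ,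
        (PrimeSpectrum.isClosed_zeroLocus _).isOpen_compl⟩ : (Spec (CommRingCat.of R[X])).Opens))) :
    NonAbH1.HasSectionOver X.X (𝟙 (Spec (CommRingCat.of R[X]))) := by
  obtain ⟨h, hh, hI⟩ : ∃ h : R[X], h.Monic ∧ h ∈ I := by
    obtain ⟨p, hp, hp0⟩ := IsIntegral.of_finite R (Ideal.Quotient.mk I Polynomial.X)
    refine ⟨p, hp, Ideal.Quotient.eq_zero_iff_mem.mp ?_⟩
    rw [← hp0]
    conv_lhs => rw [← Polynomial.aeval_X_left_apply (R := R) p]
    exact (Polynomial.aeval_algHom_apply (Ideal.Quotient.mkₐ R I) Polynomial.X p).symm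
  obtain ⟨s, hs⟩ := hX
  refine hasSection_of_hloc H X h hh ?_
  let U : (Spec (CommRingCat.of R[X])).Opens :=
    ⟨(PrimeSpectrum.zeroLocus (I : Set R[X]))ᶜ, (PrimeSpectrum.isClosed_zeroLocus _).isOpen_compl⟩
  have hr : Set.range (jaw h) ⊆ Set.range U.ι := by
    rw [range_jaw, Scheme.Opens.range_ι]
    intro q hq hq'
    exact hq (hq' hI)
  exact ⟨IsOpenImmersion.lift U.ι (jaw h) hr ≫ s, by
    rw [Category.assoc, hs, IsOpenImmersion.lift_fac]⟩

end Groth.L06.QuillenTriv
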