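import Groth.Agent.L09.QuillenDesc
import Mathlib.Algebra.MvPolynomial.Equiv

/-!
# Quillen patching for a torsor over the affine line with a given point at zero
-/

universe u

open CategoryTheory CategoryTheory.Limits MonoidalCategory CartesianMonoidalCategory MonObj
  AlgebraicGeometry

noncomputable section

namespace Groth.L06.QuillenTriv

open Groth.L09.Patch Groth.L09.TorsorPts Groth.L09.Quillen

set_option backward.isDefEq.respectTransparency false
set_option backward.isDefEq.respectTransparency.types false
set_option linter.style.haveILetI false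

variable {R : Type u} [CommRing R] {n : Type u}
variable {G V : Over (Spec (CommRingCat.of R))} [GrpObj G] {a : AlgGrp.Action G V}
  {π : V ⟶ spO R (MvPolynomial n R)}

omit [CommRing R] in
lemma sm_trivial {S : Scheme.{u}} {G : Over S} [GrpObj G] {Z : Over S} (g h : Z ⟶ G) :
    sm (NonAbH1.trivialAction G) g h = g * h := rfl

lemma relPseudo_trivial : RelPseudo (NonAbH1.trivialAction G) (toUnit G) where
  inv := toUnit_unique _ _
  uniq x y _ := ⟨x * y⁻¹, inv_mul_cancel_right x y,
    fun g hg => eq_mul_inv_of_mul_eq hg⟩

lemma isIso_toUnit_spOR : IsIso (toUnit (spO R R)) :=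
  ⟨u1 R, to_spOR_ext _ _, toUnit_unique _ _⟩

variable (π) in
/-- There is a section over the affine line over `C`. -/
def HasSec (C : Type u) [CommRing C] [Algebra R C] : Prop :=
  ∃ σ : spO R (MvPolynomial n C) ⟶ V, σ ≫ π = pm (mvOf n C)

lemma HasSec.map {C D : Type u} [CommRing C] [CommRing D] [Algebra R C] [Algebra R D] (f : C →ₐ[R] D)
    (h : HasSec π C) : HasSec π D := by
  obtain ⟨σ, hσ⟩ := h
  refine ⟨pm (mvMap f) ≫ σ, ?_⟩
  rw [Category.assoc, hσ, pm_comp]
  congr 1
  exact mv_ext (fun c => by simp) (fun i => by simp)

lemma HasSec.of_subsingleton (C : Type u) [CommRing C] [Algebra R C] [Subsingleton C] : HasSec π C := by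
  haveI hE : IsEmpty (spO R (MvPolynomial n C)).left :=
    inferInstanceAs (IsEmpty (PrimeSpectrum (MvPolynomial n C)))
  refine ⟨Over.homMk ((isInitialOfIsEmpty (X := (spO R (MvPolynomial n C)).left)).to _)
    ((isInitialOfIsEmpty (X := (spO R (MvPolynomial n C)).left)).hom_ext _ _), ?_⟩
  exact Over.OverMorphism.ext ((isInitialOfIsEmpty (X := (spO R (MvPolynomial n C)).left)).hom_ext _ _)

/-- **Quillen patching**: a torsor over the affine line with a point at zero which is trivial locally
on the base is trivial. -/
theorem exists_section_mv [LocallyOfFinitePresentation G.hom] (hV : RelPseudo a π)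
    (e : spO R R ⟶ V) (he : e ≫ π = pm (zeroA (n := n) (R := R) R))
    (hloc : ∀ (m : Ideal R) [m.IsMaximal], ∃ r : R, r ∉ m ∧ HasSec π (Localization.Away r)) :
    HasSec π R := by
  let φ₀ : G ⟶ V := sm a (𝟙 G) (toUnit G ≫ u1 R ≫ e)
  let s : spO R R ⟶ G := 1
  have hW : Groth.L25.Covers.Cov (toUnit (spO R R)) := by
    haveI := isIso_toUnit_spOR (R := R)
    haveI : IsIso (toUnit (spO R R)).left := inferInstanceAs (IsIso ((Over.forget _).map (toUnit (spO R R))))
    exact ⟨⟨inferInstance, inferInstance⟩, inferInstance⟩
  have glue : ∀ {K : Type u} [CommRing K] [Algebra R K] {r t : R} (rK tK : K), IsCoprime rK tK →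
      algebraMap R K r = rK → algebraMap R K t = tK →
      HasSec π (Localization.Away r) → HasSec π (Localization.Away t) → HasSec π K := by
    intro K _ _ r t rK tK hco er et hr ht
    let A := Localization.Away rK
    let A' := Localization.Away tK
    let B := Localization.Away (rK * tK)
    have uB := IsLocalization.Away.algebraMap_isUnit (S := B) (rK * tK)
    rw [map_mul] at uB
    let iA : A →+* B := IsLocalization.Away.lift rK (isUnit_of_mul_isUnit_left uB)
    let iA' : A' →+* B := IsLocalization.Away.lift tK (isUnit_of_mul_isUnit_right uB)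
    letI : Algebra A B := iA.toAlgebra
    letI : Algebra A' B := iA'.toAlgebra
    haveI : IsScalarTower K A B := .of_algebraMap_eq fun x =>
      (IsLocalization.Away.lift_eq rK _ x).symm
    haveI : IsScalarTower K A' B := .of_algebraMap_eq fun x =>
      (IsLocalization.Away.lift_eq tK _ x).symm
    haveI : IsScalarTower R A B := .of_algebraMap_eq fun x => by
      rw [IsScalarTower.algebraMap_apply R K B, IsScalarTower.algebraMap_apply R K A,
        ← IsScalarTower.algebraMap_apply K A B]
    haveI : IsScalarTower R A' B := .of_algebraMap_eq fun x => by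
      rw [IsScalarTower.algebraMap_apply R K B, IsScalarTower.algebraMap_apply R K A',
        ← IsScalarTower.algebraMap_apply K A' B]
    have dA : HasSec π A := by
      have hu : IsUnit (algebraMap R A r) := by
        rw [IsScalarTower.algebraMap_apply R K A, er]; exact IsLocalization.Away.algebraMap_isUnit _
      exact hr.map { IsLocalization.Away.lift r (g := algebraMap R A) hu with
        commutes' := fun x => IsLocalization.Away.lift_eq r hu x }
    have dA' : HasSec π A' := by
      have hu : IsUnit (algebraMap R A' t) := by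
        rw [IsScalarTower.algebraMap_apply R K A', et]; exact IsLocalization.Away.algebraMap_isUnit _
      exact ht.map { IsLocalization.Away.lift t (g := algebraMap R A') hu with
        commutes' := fun x => IsLocalization.Away.lift_eq t hu x }
    have normal : ∀ (C : Type u) [CommRing C] [Algebra R C], HasSec π C →
        ∃ φ : G ⊗ spO R (MvPolynomial n C) ⟶ V,
          IsEq (NonAbH1.trivialAction G) a π (pm (mvOf n C)) φ ∧
            (G ◁ pm (zeroA (n := n) (R := R) C)) ≫ φ = fst _ _ ≫ φ₀ := by
      intro C _ _ ⟨σ, hσ⟩
      let z := pm (zeroA (n := n) (R := R) C)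
      let c := pm (IsScalarTower.toAlgHom R C (MvPolynomial n C))
      let eC : spO R C ⟶ V := pm (Algebra.ofId R C) ≫ e
      have hzc : z ≫ c = 𝟙 _ := by
        rw [pm_comp, ← pm_id]; congr 1
        exact AlgHom.ext fun k => by simp [zeroA]
      have hp : eC ≫ π = (z ≫ σ) ≫ π := by
        rw [Category.assoc, he, Category.assoc, hσ, pm_comp, pm_comp]
        congr 1
        exact mv_ext (fun c => by simp [zeroA]) (fun i => by simp [zeroA])
      let g := hV.div eC (z ≫ σ) hp
      let σ' := sm a (c ≫ g) σ
      have hσ' : σ' ≫ π = pm (mvOf n C) := by rw [hV.sm_proj, hσ]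
      have hz : z ≫ σ' = eC := by
        rw [comp_sm, reassoc_of% hzc, hV.sm_div]
      refine ⟨sm a (fst _ _) (snd _ _ ≫ σ'), ⟨?_, fun g x t => ?_⟩, ?_⟩
      · rw [hV.sm_proj, Category.assoc, hσ']
      · have key : ∀ {Z : Over (Spec (CommRingCat.of R))} (g' : Z ⟶ G) (t' : Z ⟶ spO R (MvPolynomial n C)),
            lift g' t' ≫ sm a (fst G _) (snd G _ ≫ σ') = sm a g' (t' ≫ σ') := fun g' t' => by
          rw [comp_sm, lift_fst, lift_snd_assoc]
        rw [key, key]
        exact sm_mul a g x _
      · rw [comp_sm, whiskerLeft_fst, whiskerLeft_snd_assoc, hz, comp_sm, Category.comp_id]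
        congr 1
        simp only [eC, ← Category.assoc]
        exact congrArg (· ≫ e) (to_spOR_ext _ _)
    obtain ⟨φA, hA, hA0⟩ := normal A dA
    obtain ⟨φA', hA', hA'0⟩ := normal A' dA'
    obtain ⟨ψ, hψ⟩ := exists_glue (B := B) rK tK A A' hco relPseudo_trivial s hW hV φ₀ hA hA0 hA' hA'0
    exact ⟨lift 1 (𝟙 _) ≫ ψ, by rw [Category.assoc, hψ.proj, lift_snd_assoc, Category.id_comp]⟩
  let I : Ideal R :=
    { carrier := {r | HasSec π (Localization.Away r)}
      zero_mem' := by
        haveI : Subsingleton (Localization.Away (0 : R)) :=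
          IsLocalization.subsingleton (M := Submonoid.powers (0 : R)) (Submonoid.mem_powers _)
        exact HasSec.of_subsingleton _
      add_mem' := fun {r t} hr ht => by
        let K := Localization.Away (r + t)
        obtain ⟨w, hw⟩ : IsUnit (algebraMap R K r + algebraMap R K t) := by
          rw [← map_add]; exact IsLocalization.Away.algebraMap_isUnit _
        have hco : IsCoprime (algebraMap R K r) (algebraMap R K t) :=
          ⟨(w⁻¹ : Kˣ), (w⁻¹ : Kˣ), by rw [← mul_add, ← hw, Units.inv_mul]⟩
        exact glue _ _ hco rfl rfl hr ht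
      smul_mem' := fun b r h => by
        have hu : IsUnit (algebraMap R (Localization.Away (b * r)) r) := by
          have := IsLocalization.Away.algebraMap_isUnit (S := Localization.Away (b * r)) (b * r)
          rw [map_mul] at this
          exact isUnit_of_mul_isUnit_right this
        exact HasSec.map { IsLocalization.Away.lift r (g := algebraMap R (Localization.Away (b * r))) hu with
          commutes' := fun x => IsLocalization.Away.lift_eq r hu x } h }
  have hI : I = ⊤ := by
    by_contra hne
    obtain ⟨m, hm, hle⟩ := Ideal.exists_le_maximal I hne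
    obtain ⟨r, hr, hsec⟩ := hloc m
    exact hr (hle hsec)
  have h1 : HasSec π (Localization.Away (1 : R)) :=
    (show (1 : R) ∈ I by rw [hI]; trivial)
  exact h1.map { IsLocalization.Away.lift (1 : R) (g := algebraMap R R) (by simp) with
    commutes' := fun x => IsLocalization.Away.lift_eq (1 : R) _ x }

end Groth.L06.QuillenTriv
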