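import Mathlib.AlgebraicGeometry.Limits
import Mathlib.AlgebraicGeometry.Pullbacks

/-!
# Gluing two schemes along a common open subscheme
-/

universe u

open CategoryTheory CategoryTheory.Limits AlgebraicGeometry

namespace Groth.L06.QuillenTriv

set_option backward.isDefEq.respectTransparency false
set_option backward.isDefEq.respectTransparency.types false

variable {W P₁ P₂ : Scheme.{u}} (j₁ : W ⟶ P₁) (j₂ : W ⟶ P₂) [IsOpenImmersion j₁] [IsOpenImmersion j₂]

lemma isOpenImmersion_inl : IsOpenImmersion (pushout.inl j₁ j₂) :=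
  inferInstanceAs (IsOpenImmersion (colimit.ι (span j₁ j₂) WalkingSpan.left))

lemma isOpenImmersion_inr : IsOpenImmersion (pushout.inr j₁ j₂) :=
  inferInstanceAs (IsOpenImmersion (colimit.ι (span j₁ j₂) WalkingSpan.right))

lemma jointly_surjective (x : ↥(pushout j₁ j₂)) :
    x ∈ Set.range (pushout.inl j₁ j₂) ∨ x ∈ Set.range (pushout.inr j₁ j₂) := by
  obtain ⟨i, xi, rfl⟩ := Scheme.IsLocallyDirected.ι_jointly_surjective (span j₁ j₂) x
  rcases i with _ | (_ | _)
  · refine Or.inl ⟨j₁ xi, ?_⟩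
    rw [← Scheme.Hom.comp_apply]
    exact congrArg (fun f => (f : W ⟶ pushout j₁ j₂) xi) (colimit.w (span j₁ j₂) WalkingSpan.Hom.fst)
  · exact Or.inl ⟨xi, rfl⟩
  · exact Or.inr ⟨xi, rfl⟩

lemma isPullback : IsPullback j₁ j₂ (pushout.inl j₁ j₂) (pushout.inr j₁ j₂) := by
  haveI := isOpenImmersion_inl j₁ j₂
  haveI := isOpenImmersion_inr j₁ j₂
  refine (IsOpenImmersion.isPullback j₂ j₁ (pushout.inr j₁ j₂) (pushout.inl j₁ j₂)
    pushout.condition ?_).flip
  refine TopologicalSpace.Opens.ext (Set.ext fun x => ?_)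
  constructor
  · rintro ⟨y, hy⟩
    obtain ⟨k, fi, fj, z, hz, hz'⟩ := (Scheme.IsLocallyDirected.ι_eq_ι_iff
      (F := span j₁ j₂) (i := WalkingSpan.left) (j := WalkingSpan.right)).mp hy.symm
    cases fi with
    | id => cases fj
    | init =>
      exact ⟨z, hz⟩
  · rintro ⟨z, rfl⟩
    refine ⟨j₂ z, ?_⟩
    rw [← Scheme.Hom.comp_apply, ← Scheme.Hom.comp_apply, pushout.condition]

end Groth.L06.QuillenTriv
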